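import Cfsg.Agent.Lib.SzSylow.Coords
import Cfsg.Agent.Lib.U3Sylow.Coords
import Cfsg.Prelude.Def_Sz

/-!
# The Sylow 2-subgroups of `Sz(q)` and `PSU(3,2^n)` are not abelian (helper12)
-/

set_option autoImplicit false
set_option linter.style.haveILetI false

namespace Cfsg.Agent.Lib.SolvCentAb12

variable {G : Type*} [Group G] [Finite G]

/-- Abelian Sylow subgroups move along isomorphisms. -/
theorem sylow_comm_of_equiv {H : Type*} [Group H] (e : G ≃* H) (S : Sylow 2 G)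
    (hab : IsMulCommutative (S : Subgroup G)) (P : Sylow 2 H) :
    ∀ a b : (P : Subgroup H), a * b = b * a := by
  haveI : Fact (Nat.Prime 2) := ⟨Nat.prime_two⟩
  haveI : Finite H := Finite.of_equiv _ e.toEquiv
  let T : Sylow 2 H := S.mapSurjective (f := e.toMonoidHom) e.surjective
  intro a b
  apply (Sylow.equiv P T).injective
  rw [map_mul, map_mul]
  obtain ⟨⟨_, a', ha', rfl⟩, hae⟩ : ∃ x : (T : Subgroup H), x = Sylow.equiv P T a := ⟨_, rfl⟩
  obtain ⟨⟨_, b', hb', rfl⟩, hbe⟩ : ∃ x : (T : Subgroup H), x = Sylow.equiv P T b := ⟨_, rfl⟩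
  rw [← hae, ← hbe]
  apply Subtype.ext
  show e.toMonoidHom a' * e.toMonoidHom b' = e.toMonoidHom b' * e.toMonoidHom a'
  rw [← map_mul, ← map_mul]
  exact congrArg e.toMonoidHom (congrArg Subtype.val (hab.is_comm.comm ⟨a', ha'⟩ ⟨b', hb'⟩))

theorem not_isoSuzuki (S : Sylow 2 G) (hab : IsMulCommutative (S : Subgroup G)) :
    ¬ Cfsg.Lie.IsoSuzuki G := by
  rintro ⟨F, _, _, m, hm, hF, ⟨e⟩⟩
  haveI : Fact (Nat.Prime 2) := ⟨Nat.prime_two⟩
  have h : Cfsg.Agent.Lib.LieTwisted.Suzuki.IsSzField F m := ⟨hF⟩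
  haveI : Finite (Cfsg.Lie.Sz F (2 ^ (m + 1))) := Finite.of_equiv _ e.toEquiv
  obtain ⟨P⟩ : Nonempty (Sylow 2 (Cfsg.Lie.Sz F (2 ^ (m + 1)))) := inferInstance
  obtain ⟨c⟩ := Cfsg.Agent.Lib.SzSylow.exists_coords_Sz h hm P
  have hc := sylow_comm_of_equiv e S hab P
  have hfix : ∀ x : F, Cfsg.Agent.Lib.LieTwisted.Suzuki.sg m x = x := by
    intro x
    have h1 := congrArg (fun p : F × F => p.2)
      ((c.mul _ _).symm.trans ((congrArg c.equiv (hc (c.equiv.symm (x, 0)) (c.equiv.symm (1, 0)))).trans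
        (c.mul _ _)))
    simpa [Cfsg.Agent.Lib.LieTwisted.Suzuki.sg_one] using h1
  have hid : ∀ x : F, x ^ 2 = x := fun x => by
    rw [← h.sg_sg x, hfix, hfix]
  have hcard : Fintype.card F ≤ 2 := by
    classical
    have hsub : (Finset.univ : Finset F) ⊆ {0, 1} := by
      intro x _
      rw [Finset.mem_insert, Finset.mem_singleton]
      rcases eq_or_ne x 0 with hx | hx
      · exact Or.inl hx
      · exact Or.inr (mul_left_cancel₀ hx (by rw [← pow_two, hid, mul_one]))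
    exact (Finset.card_le_card hsub).trans (Finset.card_le_two)
  have : 2 ^ 3 ≤ 2 ^ (2 * m + 1) := Nat.pow_le_pow_right two_pos (by omega)
  omega

theorem not_iso_PSU {F : Type} [Field F] [Fintype F] {n : ℕ} (hF : Fintype.card F = (2 ^ n) ^ 2)
    (S : Sylow 2 G) (hab : IsMulCommutative (S : Subgroup G)) :
    IsEmpty (G ≃* Cfsg.PSU 3 F (2 ^ n)) := by
  refine ⟨fun e => ?_⟩
  haveI : Fact (Nat.Prime 2) := ⟨Nat.prime_two⟩
  haveI : Finite (Cfsg.PSU 3 F (2 ^ n)) := Finite.of_equiv _ e.toEquiv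
  obtain ⟨P⟩ : Nonempty (Sylow 2 (Cfsg.PSU 3 F (2 ^ n))) := inferInstance
  obtain ⟨c⟩ := Cfsg.Agent.Lib.U3Sylow.exists_coords_PSU hF P
  have hc := sylow_comm_of_equiv e S hab P
  obtain ⟨x, hx⟩ := Cfsg.Agent.Lib.U3Sylow.exists_not_fixed hF
  obtain ⟨p, hp⟩ := Cfsg.Agent.Lib.U3Sylow.exists_pair hF x
  obtain ⟨o, ho⟩ := Cfsg.Agent.Lib.U3Sylow.exists_pair hF (1 : F)
  have h1 := congrArg (fun s => (c.equiv s).1.2) (hc (c.equiv.symm p) (c.equiv.symm o))
  simp only [c.mul_snd, Equiv.apply_symm_apply, hp, ho, one_pow, mul_one, one_mul] at h1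
  exact hx (add_left_cancel (h1.trans (by rw [add_comm o.1.2 p.1.2])))

end Cfsg.Agent.Lib.SolvCentAb12
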