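import Cfsg.Agent.Lib.SolvCentAb12.Lift
import Cfsg.Agent.Lib.SolvCentAb12.Models
import Cfsg.Agent.Lib.BenderConsumers23.Simple
import Cfsg.Agent.Lib.Involutions.StronglyEmbedded
import Cfsg.Agent.Lib.Balance.Functor
import Cfsg.Agent.Lib.GWConsumers12.RankOne
import Cfsg.Agent.Lib.Homocyclic.BrauerTheorem
import Cfsg.Agent.Lib.Linear.Order
import Cfsg.Agent.S0217
import Cfsg.Agent.S1237
import Cfsg.Agent.S1244

/-!
# Simple groups with abelian Sylow 2-subgroups and solvable involution centralizers, given the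
Bender–Suzuki and Gorenstein–Walter theorems (helper12)
-/

set_option autoImplicit false
set_option linter.style.haveILetI false

universe u

namespace Cfsg.Agent.Lib.SolvCentAb12

open Subgroup
open Cfsg.Agent.Lib.Involutions.Basic (orderOf_conj_eq)

variable {G : Type u} [Group G] [Finite G]

/-- `Ω₁` of an abelian subgroup. -/
def omega (S : Subgroup G) (hS : IsMulCommutative S) : Subgroup G where
  carrier := {x | x ∈ S ∧ x ^ 2 = 1}
  one_mem' := ⟨one_mem _, one_pow 2⟩
  mul_mem' := by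
    rintro a b ⟨ha, ha2⟩ ⟨hb, hb2⟩
    refine ⟨mul_mem ha hb, ?_⟩
    have hab : Commute a b := congrArg Subtype.val (hS.is_comm.comm ⟨a, ha⟩ ⟨b, hb⟩)
    rw [hab.mul_pow, ha2, hb2, one_mul]
  inv_mem' := by
    rintro a ⟨ha, ha2⟩
    exact ⟨inv_mem ha, by rw [inv_pow, ha2, inv_one]⟩

theorem coe_sq_one {S : Subgroup G} {x : S} (h : orderOf x = 2) : (x : G) ^ 2 = 1 := by
  rw [← orderOf_dvd_iff_pow_eq_one, Subgroup.orderOf_coe, h]

theorem mem_omega {S : Subgroup G} {hS : IsMulCommutative S} {x : G} :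
    x ∈ omega S hS ↔ x ∈ S ∧ x ^ 2 = 1 := Iff.rfl

/-- The fields of the models: `q ≡ 3, 5 mod 8` or a power of two. -/
def GoodCard (q : ℕ) : Prop :=
  ((q % 8 = 3 ∨ q % 8 = 5) ∧ 5 ≤ q) ∨ ∃ n : ℕ, 2 ≤ n ∧ q = 2 ^ n

/-- The possible simple groups. -/
def IsModel (G : Type u) [Group G] : Prop :=
  ∃ (F : Type) (_ : Field F) (_ : Fintype F), GoodCard (Fintype.card F) ∧
    Nonempty (G ≃* Matrix.ProjectiveSpecialLinearGroup (Fin 2) F)

theorem even_card [IsSimpleGroup G] (hG : ¬ IsMulCommutative G) : Even (Nat.card G) := by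
  by_contra h
  haveI := Cfsg.Agent.S0205.result (G := G) (Nat.not_even_iff_odd.1 h)
  exact hG ⟨⟨(IsSimpleGroup.comm_iff_isSolvable).2 inferInstance⟩⟩

theorem not_index_two [IsSimpleGroup G] (hG : ¬ IsMulCommutative G) (H : Subgroup G) :
    H.index ≠ 2 := by
  intro h
  haveI := Subgroup.normal_of_index_eq_two h
  rcases Subgroup.Normal.eq_bot_or_eq_top (H := H) inferInstance with hb | ht
  · rw [hb, Subgroup.index_bot] at h
    haveI : Fact (Nat.Prime 2) := ⟨Nat.prime_two⟩
    haveI : IsCyclic G := isCyclic_of_prime_card h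
    exact hG ⟨⟨fun a b => (IsCyclic.commGroup (α := G)).mul_comm a b⟩⟩
  · rw [ht, Subgroup.index_top] at h
    omega

theorem sq_four : ∀ y : Multiplicative (ZMod (2 ^ 1) × ZMod (2 ^ 1)), y ^ 2 = 1 := by decide

variable [IsSimpleGroup G]

/-- `Ω₁(S)` has at least four elements. -/
theorem four_le_omega (hG : ¬ IsMulCommutative G) (S : Sylow 2 G)
    (hab : IsMulCommutative (S : Subgroup G)) : 4 ≤ Nat.card (omega (S : Subgroup G) hab) := by
  haveI : Fact (Nat.Prime 2) := ⟨Nat.prime_two⟩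
  set A := omega (S : Subgroup G) hab
  have hAp : IsPGroup 2 A := S.2.to_le fun x hx => (mem_omega.1 hx).1
  obtain ⟨k, hk⟩ := IsPGroup.iff_card.1 hAp
  rcases k with _ | _ | k
  · exfalso
    have hdvd : 2 ∣ Nat.card (S : Subgroup G) := S.dvd_card_of_dvd_card (even_card hG).two_dvd
    obtain ⟨t, ht⟩ := exists_prime_orderOf_dvd_card' 2 hdvd
    have htA : (t : G) ∈ A := mem_omega.2 ⟨t.2, coe_sq_one ht⟩
    haveI : Subsingleton A := (Nat.card_eq_one_iff_unique.1 (hk.trans (pow_zero 2))).1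
    have : (⟨_, htA⟩ : A) = 1 := Subsingleton.elim _ _
    rw [show t = 1 from Subtype.ext (congrArg (fun a : A => (a : G)) this), orderOf_one] at ht
    omega
  · exfalso
    have hu : ∀ x y : (S : Subgroup G), orderOf x = 2 → orderOf y = 2 → y ∈ zpowers x := by
      intro x y hx hy
      have hmem : ∀ z : (S : Subgroup G), orderOf z = 2 → (z : G) ∈ A ∧ (z : G) ≠ 1 := fun z hz => by
        refine ⟨mem_omega.2 ⟨z.2, coe_sq_one hz⟩,
          fun h => ?_⟩
        rw [show z = 1 from Subtype.ext h, orderOf_one] at hz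
        omega
      obtain ⟨a, -, huniq⟩ := (Nat.card_eq_two_iff' (1 : A)).1 (by rw [hk, pow_one])
      have h1 := huniq ⟨_, (hmem x hx).1⟩ fun h => (hmem x hx).2 (congrArg Subtype.val h)
      have h2 := huniq ⟨_, (hmem y hy).1⟩ fun h => (hmem y hy).2 (congrArg Subtype.val h)
      have hxy : x = y := Subtype.ext (congrArg (fun b : A => (b : G)) (h1.trans h2.symm))
      exact hxy ▸ mem_zpowers x
    rcases Cfsg.Agent.Lib.PGroups.isCyclic_or_quaternion (p := 2) S.2 hu with hcyc | ⟨-, m, hm, ⟨e⟩⟩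
    · have hmin : (Nat.card G).minFac = 2 := (Nat.minFac_eq_two_iff _).2 (even_card hG).two_dvd
      have hN := IsCyclic.normalizer_le_centralizer hmin hcyc
      have hcompl := MonoidHom.ker_transferSylow_isComplement' S hN
      have hnd := MonoidHom.not_dvd_card_ker_transferSylow S hN
      rcases Subgroup.Normal.eq_bot_or_eq_top
        (H := (MonoidHom.transferSylow S hN).ker) inferInstance with h | h
      · rw [h, Subgroup.isComplement'_bot_left] at hcompl
        exact hG ⟨⟨fun a b => congrArg Subtype.val (hab.is_comm.comm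
          (⟨a, hcompl ▸ mem_top a⟩ : (S : Subgroup G)) ⟨b, hcompl ▸ mem_top b⟩)⟩⟩
      · rw [h, Subgroup.card_top] at hnd
        exact hnd (even_card hG).two_dvd
    · have h := e.symm.injective.ne (a₁ := QuaternionGroup.xa 0 * QuaternionGroup.a 1)
        (a₂ := QuaternionGroup.a 1 * QuaternionGroup.xa 0) ?_
      · rw [map_mul, map_mul] at h
        exact h (hab.is_comm.comm _ _)
      · rw [QuaternionGroup.xa_mul_a, QuaternionGroup.a_mul_xa, Ne, QuaternionGroup.xa.injEq,
          zero_add, zero_sub]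
        intro hh
        have h2 : ((2 : ℕ) : ZMod (2 * 2 ^ m)) = 0 := by push_cast; linear_combination hh
        rw [ZMod.natCast_eq_zero_iff] at h2
        have := Nat.le_of_dvd two_pos h2
        have : 2 ^ 1 ≤ 2 ^ m := Nat.pow_le_pow_right two_pos hm
        omega
  · rw [hk, pow_succ, pow_succ]
    have := Nat.one_le_pow k 2 two_pos
    omega

/-- The odd cores of the centralizers generate a subgroup whose normalizer, or else the Sylow
normalizer, is strongly embedded. -/
theorem exists_stronglyEmbedded (hG : ¬ IsMulCommutative G) (S : Sylow 2 G)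
    (hab : IsMulCommutative (S : Subgroup G))
    (hC : ∀ t : G, orderOf t = 2 → Group.IsSolvable ↥(Subgroup.centralizer ({t} : Set G)))
    (h8 : 8 ≤ Nat.card (omega (S : Subgroup G) hab)) :
    ∃ H : Subgroup G, Cfsg.IsStronglyEmbedded H := by
  haveI : Fact (Nat.Prime 2) := ⟨Nat.prime_two⟩
  set A := omega (S : Subgroup G) hab with hAdef
  have hord : ∀ a ∈ A, a ≠ 1 → orderOf a = 2 := fun a ha ha1 =>
    orderOf_eq_prime (mem_omega.1 ha).2 ha1
  have hAcomm : ∀ a ∈ A, ∀ b ∈ A, a * b = b * a := fun a ha b hb =>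
    congrArg Subtype.val (hab.is_comm.comm ⟨a, (mem_omega.1 ha).1⟩ ⟨b, (mem_omega.1 hb).1⟩)
  set θ : G → Subgroup G := fun a => Cfsg.centralizerPPrimeCore 2 a with hθ
  have hSC : ∀ a ∈ A, (S : Subgroup G) ≤ Subgroup.centralizer ({a} : Set G) := fun a ha s hs =>
    Subgroup.mem_centralizer_singleton_iff.2
      (congrArg Subtype.val (hab.is_comm.comm ⟨s, hs⟩ ⟨a, (mem_omega.1 ha).1⟩))
  have hθC : ∀ a ∈ A, a ≠ 1 → θ a ≤ Subgroup.centralizer {a} := fun a _ _ =>
    Cfsg.Agent.Lib.Balance.centralizerPPrimeCore_le a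
  have hθp : ∀ a ∈ A, a ≠ 1 → ¬ 2 ∣ Nat.card (θ a) := fun a _ _ =>
    Cfsg.Agent.Lib.Balance.not_dvd_card_centralizerPPrimeCore a
  have hnorm : ∀ a g : G, g ∈ Subgroup.centralizer ({a} : Set G) → ∀ x ∈ θ a, g * x * g⁻¹ ∈ θ a :=
    fun a g hg x hx => (Subgroup.mem_normalizer_iff.1
      (Cfsg.Agent.Lib.Balance.centralizer_le_normalizer_centralizerPPrimeCore a hg) x).1 hx
  have hθinv : ∀ a ∈ A, a ≠ 1 → ∀ b ∈ A, ∀ x ∈ θ a, b * x * b⁻¹ ∈ θ a := fun a ha _ b hb =>
    hnorm a b (Subgroup.mem_centralizer_singleton_iff.2 (hAcomm b hb a ha))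
  have hθs : ∀ a ∈ A, a ≠ 1 → Group.IsSolvable (θ a) := fun a ha ha1 => by
    haveI := hC a (hord a ha ha1)
    exact Group.isSolvable_of_isSolvable_injective (f := Subgroup.inclusion (hθC a ha ha1))
      (Subgroup.inclusion_injective _)
  have hbal : ∀ a ∈ A, a ≠ 1 → ∀ b ∈ A, b ≠ 1 → θ a ⊓ Subgroup.centralizer {b} ≤ θ b :=
    fun a ha ha1 b hb hb1 => by
      haveI := hC b (hord b hb hb1)
      exact Cfsg.Agent.Lib.Balance.balance_of_pLayer_eq_bot (hord a ha ha1) (hAcomm a ha b hb)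
        Cfsg.Agent.Lib.Balance.pLayer_eq_bot_of_isSolvable
  obtain ⟨hWodd, hWcut⟩ := Cfsg.Agent.S0217.result A hAcomm (fun a ha => (mem_omega.1 ha).2)
    (by norm_num; omega) θ hθC hθp hθinv hθs hbal
  set W := ⨆ a : {a : G // a ∈ A ∧ a ≠ 1}, θ a with hW
  have hθW : ∀ a ∈ A, a ≠ 1 → θ a ≤ W := fun a ha ha1 =>
    le_iSup (fun a : {a : G // a ∈ A ∧ a ≠ 1} => θ a) ⟨a, ha, ha1⟩
  have hNAW : ∀ g : G, (∀ a ∈ A, g * a * g⁻¹ ∈ A) → W.map (MulAut.conj g).toMonoidHom ≤ W := by
    intro g hg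
    rw [hW, Subgroup.map_iSup]
    refine iSup_le fun a => ?_
    rw [hθ]
    simp only
    rw [← Cfsg.Agent.Lib.Balance.centralizerPPrimeCore_conj]
    exact le_iSup (fun b : {b : G // b ∈ A ∧ b ≠ 1} => θ b)
      ⟨g * a.1 * g⁻¹, hg _ a.2.1, fun h => a.2.2 (by
        have := congrArg (fun z => g⁻¹ * z * g) h
        simpa [mul_assoc] using this)⟩
  have hNS : Subgroup.normalizer ((S : Subgroup G) : Set G) ≤ Subgroup.normalizer (W : Set G) := by
    intro g hg
    have hmap : W.map (MulAut.conj g).toMonoidHom = W := by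
      refine Subgroup.eq_of_le_of_card_ge (hNAW g fun a ha => mem_omega.2
        ⟨(Subgroup.mem_normalizer_iff.1 hg a).1 (mem_omega.1 ha).1, by
          rw [conj_pow, (mem_omega.1 ha).2, mul_one, mul_inv_cancel]⟩) ?_
      rw [Subgroup.card_map_of_injective (f := (MulAut.conj g).toMonoidHom) (MulAut.conj g).injective]
    refine Subgroup.mem_normalizer_iff.2 fun x => ⟨fun hx => ?_, fun hx => ?_⟩
    · exact hmap ▸ ⟨x, hx, rfl⟩
    · change g * x * g⁻¹ ∈ W at hx
      rw [← hmap] at hx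
      obtain ⟨y, hy, hye⟩ := hx
      have hye' : g * y * g⁻¹ = g * x * g⁻¹ := hye
      rwa [← mul_left_cancel (mul_right_cancel hye')]
  classical
  set H := if W = ⊥ then Subgroup.normalizer ((S : Subgroup G) : Set G)
    else Subgroup.normalizer (W : Set G) with hH
  have hNH : Subgroup.normalizer ((S : Subgroup G) : Set G) ≤ H := by
    rw [hH]
    split_ifs
    · exact le_rfl
    · exact hNS
  have hSH : (S : Subgroup G) ≤ H := Subgroup.le_normalizer.trans hNH
  have hCH : ∀ a ∈ A, a ≠ 1 → Subgroup.centralizer ({a} : Set G) ≤ H := by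
    intro a ha ha1
    haveI := hC a (hord a ha ha1)
    set C := Subgroup.centralizer ({a} : Set G) with hCdef
    have hle := hSC a ha
    have hPab : IsMulCommutative ((S.subtype hle : Sylow 2 C) : Subgroup C) :=
      ⟨⟨fun x y => by
        have := congrArg Subtype.val (hab.is_comm.comm (⟨((x : C) : G), x.2⟩ : (S : Subgroup G))
          ⟨((y : C) : G), y.2⟩)
        exact Subtype.ext (Subtype.ext this)⟩⟩
    have hfr := sup_normalizer_eq_top (S.subtype hle) hPab
    have hOH : θ a ≤ H := by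
      rw [hH]
      split_ifs with hW1
      · exact (hθW a ha ha1).trans (hW1 ▸ bot_le)
      · exact (hθW a ha ha1).trans Subgroup.le_normalizer
    intro c hc
    have hcm : (⟨c, hc⟩ : C) ∈ H.subgroupOf C := by
      have hle' : (Subgroup.normalizer (((S.subtype hle : Sylow 2 C) : Subgroup C) : Set C) ⊔
          Cfsg.pPrimeCore 2 C) ≤ H.subgroupOf C := by
        refine sup_le (fun x hx => ?_) (fun x hx => ?_)
        · refine Subgroup.mem_subgroupOf.2 (hNH (Subgroup.mem_normalizer_iff.2 fun s => ⟨fun hs => ?_,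
            fun hs => ?_⟩))
          · exact (Subgroup.mem_normalizer_iff.1 hx ⟨s, hle hs⟩).1 hs
          · have hsC : s ∈ C := by
              have : (x : G) * s * (x : G)⁻¹ ∈ C := hle hs
              simpa [mul_assoc] using mul_mem (mul_mem (inv_mem x.2) this) x.2
            exact (Subgroup.mem_normalizer_iff.1 hx ⟨s, hsC⟩).2 hs
        · exact hOH ⟨x, hx, rfl⟩
      exact hle' (hfr ▸ mem_top _)
    exact Subgroup.mem_subgroupOf.1 hcm
  have hne : H ≠ ⊤ := by
    rw [hH]
    split_ifs with hW1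
    · intro h
      rw [Subgroup.normalizer_eq_top_iff] at h
      rcases Subgroup.Normal.eq_bot_or_eq_top (H := (S : Subgroup G)) h with hb | ht
      · have := S.dvd_card_of_dvd_card (even_card hG).two_dvd
        rw [hb, Subgroup.card_bot] at this
        omega
      · exact hG ⟨⟨fun x y => congrArg Subtype.val (hab.is_comm.comm
          (⟨x, ht ▸ mem_top x⟩ : (S : Subgroup G)) ⟨y, ht ▸ mem_top y⟩)⟩⟩
    · intro h
      rw [Subgroup.normalizer_eq_top_iff] at h
      rcases Subgroup.Normal.eq_bot_or_eq_top (H := W) h with hb | ht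
      · exact hW1 hb
      · rw [ht, Subgroup.card_top] at hWodd
        exact hWodd (even_card hG).two_dvd
  have heven : Even (Nat.card H) := even_iff_two_dvd.2
    ((S.dvd_card_of_dvd_card (even_card hG).two_dvd).trans (Subgroup.card_dvd_of_le hSH))
  -- every involution of `H` is conjugate in `H` to one of `A`
  have hconj : ∀ t ∈ H, orderOf t = 2 → ∃ h ∈ H, h * t * h⁻¹ ∈ A := by
    intro t htH ht
    have hp : IsPGroup 2 (Subgroup.zpowers (⟨t, htH⟩ : H)) := IsPGroup.of_card (n := 1) (by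
      rw [Nat.card_zpowers, ← Subgroup.orderOf_coe]; simpa using ht)
    obtain ⟨P', hP'⟩ := hp.exists_le_sylow
    obtain ⟨h, hh⟩ := MulAction.exists_smul_eq H P' (S.subtype hSH)
    have hmem : h * (⟨t, htH⟩ : H) * h⁻¹ ∈ ((S.subtype hSH : Sylow 2 H) : Subgroup H) := by
      rw [← hh, Sylow.coe_subgroup_smul]
      simpa using Subgroup.smul_mem_pointwise_smul (a := MulAut.conj h) (⟨t, htH⟩ : H)
        (P' : Subgroup H) (hP' (Subgroup.mem_zpowers _))
    refine ⟨h, h.2, mem_omega.2 ⟨hmem, ?_⟩⟩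
    have ht2 : t ^ 2 = 1 := by rw [← ht, pow_orderOf_eq_one]
    rw [conj_pow, ht2, mul_one, mul_inv_cancel]
  have hne1 : ∀ t g : G, orderOf t = 2 → g * t * g⁻¹ ≠ 1 := fun t g ht h => by
    rw [← orderOf_conj_eq g t, h, orderOf_one] at ht
    omega
  have hcent : ∀ t ∈ H, orderOf t = 2 → Subgroup.centralizer ({t} : Set G) ≤ H := by
    intro t htH ht c hc
    obtain ⟨h, hh, hA⟩ := hconj t htH ht
    have hm : h * c * h⁻¹ ∈ H := hCH _ hA (hne1 t h ht) (by
      rw [Subgroup.mem_centralizer_singleton_iff] at hc ⊢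
      calc h * c * h⁻¹ * (h * t * h⁻¹) = h * (c * t) * h⁻¹ := by group
        _ = h * t * h⁻¹ * (h * c * h⁻¹) := by rw [hc]; group)
    simpa [mul_assoc] using mul_mem (mul_mem (inv_mem hh) hm) hh
  refine ⟨H, (Cfsg.Agent.Lib.Involutions.StronglyEmbedded.isStronglyEmbedded_iff_fusion hne heven).2
    ⟨hcent, fun t htH s hsH ht hs hts => ?_⟩⟩
  obtain ⟨h, hh, hA⟩ := hconj t htH ht
  obtain ⟨h', hh', hA'⟩ := hconj s hsH hs
  obtain ⟨g, hg⟩ := isConj_iff.1 hts
  haveI := hab
  obtain ⟨n, hn, hne'⟩ := Sylow.conj_eq_normalizer_conj_of_mem S (h * t * h⁻¹) (h' * g * h⁻¹)⁻¹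
    (mem_omega.1 hA).1 (by
      rw [inv_inv]
      have h1 := (mem_omega.1 hA').1
      rw [← hg] at h1
      have e1 : h' * g * h⁻¹ * (h * t * h⁻¹) * (h' * g * h⁻¹)⁻¹ = h' * (g * t * g⁻¹) * h'⁻¹ := by group
      exact e1 ▸ h1)
  rw [inv_inv] at hne'
  refine ⟨h'⁻¹ * n⁻¹ * h, mul_mem (mul_mem (inv_mem hh') (inv_mem (hNH hn))) hh, ?_⟩
  calc h'⁻¹ * n⁻¹ * h * t * (h'⁻¹ * n⁻¹ * h)⁻¹ = h'⁻¹ * (n⁻¹ * (h * t * h⁻¹) * n) * h' := by group
    _ = h'⁻¹ * ((h' * g * h⁻¹) * (h * t * h⁻¹) * (h' * g * h⁻¹)⁻¹) * h' := by rw [hne']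
    _ = g * t * g⁻¹ := by group
    _ = s := hg

/-- Rank at least three. -/
theorem model_of_rank_three (hP : Cfsg.Agent.Lib.BenderConsumers23.PropPartOne.{u})
    (hMain : Cfsg.Agent.Lib.BenderSuzuki.PropMain.{u, u}) (hG : ¬ IsMulCommutative G) (S : Sylow 2 G)
    (hab : IsMulCommutative (S : Subgroup G))
    (hC : ∀ t : G, orderOf t = 2 → Group.IsSolvable ↥(Subgroup.centralizer ({t} : Set G)))
    (h8 : 8 ≤ Nat.card (omega (S : Subgroup G) hab)) : IsModel G := by
  obtain ⟨H, hH⟩ := exists_stronglyEmbedded hG S hab hC h8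
  rcases (Cfsg.Agent.Lib.BenderConsumers23.simple_case hP hMain
    (Cfsg.Agent.Lib.BenderConsumers23.na_of_not_comm hG) hH).1 with
    ⟨F, i, j, n, hn, hF, he⟩ | hsz | ⟨F, i, j, n, hn, hF, ⟨e⟩⟩
  · exact ⟨F, i, j, Or.inr ⟨n, hn, hF⟩, he⟩
  · exact absurd hsz (not_isoSuzuki S hab)
  · exact ((not_iso_PSU hF S hab).false e).elim

/-- Rank two. -/
theorem model_of_rank_two (hGW : GWConsumers12.GWPerfect.{u}) (hG : ¬ IsMulCommutative G)
    (S : Sylow 2 G) (hab : IsMulCommutative (S : Subgroup G))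
    (h4 : Nat.card (omega (S : Subgroup G) hab) = 4) : IsModel G := by
  classical
  haveI : Fact (Nat.Prime 2) := ⟨Nat.prime_two⟩
  set A := omega (S : Subgroup G) hab with hAdef
  have hord : ∀ a : G, a ∈ A → a ≠ 1 → orderOf a = 2 := fun a ha ha1 =>
    orderOf_eq_prime (mem_omega.1 ha).2 ha1
  have hel : ∀ a : (S : Subgroup G), orderOf a = 2 → (a : G) ∈ A ∧ (a : G) ≠ 1 := fun a ha => by
    refine ⟨mem_omega.2 ⟨a.2, coe_sq_one ha⟩,
      fun h => ?_⟩
    rw [show a = 1 from Subtype.ext h, orderOf_one] at ha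
    omega
  -- ranks
  have hr2 : Cfsg.PRankLE 2 2 (S : Subgroup G) := fun E _ hE => by
    have hle : E.map (S : Subgroup G).subtype ≤ A := by
      rintro _ ⟨e, he, rfl⟩
      exact mem_omega.2 ⟨e.2, congrArg Subtype.val (hE e he)⟩
    have := Subgroup.card_le_of_le hle
    rw [Subgroup.card_map_of_injective (S : Subgroup G).subtype_injective, h4] at this
    simpa using this
  have hr1 : ¬ Cfsg.PRankLE 2 1 (S : Subgroup G) := fun h => by
    have hle : A ≤ (S : Subgroup G) := fun x hx => (mem_omega.1 hx).1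
    have hc : IsMulCommutative (A.subgroupOf (S : Subgroup G)) :=
      ⟨⟨fun a b => Subtype.ext (hab.is_comm.comm _ _)⟩⟩
    have := h (A.subgroupOf (S : Subgroup G)) hc
      (fun a ha => Subtype.ext (mem_omega.1 (Subgroup.mem_subgroupOf.1 ha)).2)
    rw [Nat.card_congr (Subgroup.subgroupOfEquivOfLe hle).toEquiv, h4] at this
    norm_num at this
  -- all involutions of S are conjugate in N(S)
  have htrans : ∀ a b : G, a ∈ A → a ≠ 1 → b ∈ A → b ≠ 1 →
      ∃ n ∈ Subgroup.normalizer ((S : Subgroup G) : Set G), n * a * n⁻¹ = b := by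
    intro a b ha ha1 hb hb1
    set R := Subgroup.zpowers b with hRdef
    have hRS : R ≤ (S : Subgroup G) := Subgroup.zpowers_le.2 (mem_omega.1 hb).1
    have hRc : Nat.card R = 2 := by rw [hRdef, Nat.card_zpowers, hord b hb hb1]
    have hR1 : Cfsg.PRankLE 2 (2 - 1) R := fun E _ _ => by
      have := Subgroup.card_le_card_group E
      rw [hRc] at this
      simpa using this
    have hR0 : ¬ Cfsg.PRankLE 2 (2 - 2) R := fun h => by
      have := h ⊤ ⟨⟨fun x y => Subtype.ext ((IsCyclic.commGroup (α := R)).mul_comm x.1 y.1)⟩⟩ (fun x _ => by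
          rw [← hRc]; exact pow_card_eq_one')
      rw [Subgroup.card_top, hRc] at this
      norm_num at this
    obtain ⟨n, hn, hnR⟩ := Cfsg.Agent.S1244.result (not_index_two hG) S hab 2 one_le_two
      ⟨hr2, hr1⟩ R hRS ⟨hR1, Or.inr hR0⟩ a (hord a ha ha1) (mem_omega.1 ha).1
    refine ⟨n, hn, ?_⟩
    obtain ⟨x, -, hxu⟩ := (Nat.card_eq_two_iff' (1 : R)).1 hRc
    have h1 := hxu ⟨_, hnR⟩ fun h => ha1 (by
      have h' : n * a * n⁻¹ = 1 := congrArg Subtype.val h
      have := congrArg (fun z => n⁻¹ * z * n) h'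
      simpa [mul_assoc] using this)
    have h2 := hxu ⟨b, Subgroup.mem_zpowers b⟩ fun h => hb1 (congrArg Subtype.val h)
    exact congrArg Subtype.val (h1.trans h2.symm)
  -- the three involutions
  obtain ⟨a, ha, ha1⟩ : ∃ a ∈ A, a ≠ 1 := A.bot_or_exists_ne_one.resolve_left fun h => by
    rw [h, Subgroup.card_bot] at h4; omega
  obtain ⟨b, hb, hb1, hba⟩ : ∃ b ∈ A, b ≠ 1 ∧ b ≠ a := by
    by_contra h
    push Not at h
    have hsub : (A : Set G) ⊆ {1, a} := fun x hx => (eq_or_ne x 1).imp id (h x hx)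
    have := (Set.ncard_le_ncard hsub (Set.toFinite _)).trans (Set.ncard_insert_le _ _)
    rw [Set.ncard_singleton, show (A : Set G).ncard = Nat.card A from rfl, h4] at this
    omega
  have hab' : a * b = b * a :=
    congrArg Subtype.val (hab.is_comm.comm ⟨a, (mem_omega.1 ha).1⟩ ⟨b, (mem_omega.1 hb).1⟩)
  have ha2 : a * a = 1 := by rw [← pow_two]; exact (mem_omega.1 ha).2
  have hb2 : b * b = 1 := by rw [← pow_two]; exact (mem_omega.1 hb).2
  have hc1 : a * b ≠ 1 := fun h => hba (mul_left_cancel (a := a) (by rw [h, ha2]))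
  have hca : a * b ≠ a := fun h => hb1 (mul_left_cancel (a := a) (by rw [h, mul_one]))
  have hcb : a * b ≠ b := fun h => ha1 (mul_right_cancel (b := b) (by rw [h, one_mul]))
  have hall : ∀ x ∈ A, x ≠ 1 → x = a ∨ x = b ∨ x = a * b := by
    intro x hx hx1
    by_contra h
    push Not at h
    have hsub : ({1, a, b, a * b, x} : Set G) ⊆ A := by
      rintro y (rfl | rfl | rfl | rfl | rfl)
      exacts [one_mem _, ha, hb, mul_mem ha hb, hx]
    have h5 : ({1, a, b, a * b, x} : Set G).ncard = 5 := by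
      rw [Set.ncard_insert_of_notMem (by simp [ha1.symm, hb1.symm, hc1.symm, hx1.symm]),
        Set.ncard_insert_of_notMem (by simp [hba.symm, hca.symm, h.1.symm]),
        Set.ncard_insert_of_notMem (by simp [hcb.symm, h.2.1.symm]),
        Set.ncard_insert_of_notMem (by simp [h.2.2.symm]), Set.ncard_singleton]
    have := Set.ncard_le_ncard hsub (Set.toFinite _)
    rw [h5, show (A : Set G).ncard = Nat.card A from rfl, h4] at this
    omega
  -- an element of N(S) cycling them
  obtain ⟨n, hn, hnab⟩ := htrans a b ha ha1 hb hb1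
  have hconjA : ∀ x ∈ A, n * x * n⁻¹ ∈ A := fun x hx => mem_omega.2
    ⟨(Subgroup.mem_normalizer_iff.1 hn x).1 (mem_omega.1 hx).1, by
      rw [conj_pow, (mem_omega.1 hx).2, mul_one, mul_inv_cancel]⟩
  have hnb : n * b * n⁻¹ = a * b := by
    have hne : n * b * n⁻¹ ≠ 1 := fun h => hb1 (by
      have := congrArg (fun z => n⁻¹ * z * n) h
      simpa [mul_assoc] using this)
    rcases hall _ (hconjA b hb) hne with h | h | h
    · -- `n` would induce a transposition, against the oddness of the automizer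
      exfalso
      have hn2 : n ^ 2 * a * (n ^ 2)⁻¹ = a := by
        rw [pow_two]
        calc n * n * a * (n * n)⁻¹ = n * (n * a * n⁻¹) * n⁻¹ := by group
          _ = a := by rw [hnab, h]
      set N := Subgroup.normalizer ((S : Subgroup G) : Set G)
      set T := Subgroup.centralizer ({a} : Set G) ⊓ N with hT
      have hST : (S : Subgroup G) ≤ T := le_inf (fun s hs => Subgroup.mem_centralizer_singleton_iff.2
        (congrArg Subtype.val (hab.is_comm.comm ⟨s, hs⟩ ⟨a, (mem_omega.1 ha).1⟩))) Subgroup.le_normalizer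
      -- the odd part of the order of `n`
      obtain ⟨k, m, hm, hkm⟩ := Nat.exists_eq_two_pow_mul_odd (orderOf_pos n).ne'
      obtain ⟨j, hj⟩ := hm
      have hp2 : orderOf (n ^ m) ∣ 2 ^ k := orderOf_dvd_of_pow_eq_one (by
        rw [← pow_mul, mul_comm, ← hkm, pow_orderOf_eq_one])
      haveI : ((S : Subgroup G).subgroupOf N).Normal := Subgroup.normal_in_normalizer
      have hmem : n ^ m ∈ (S : Subgroup G) := by
        have hpz : IsPGroup 2 (Subgroup.zpowers (⟨n ^ m, pow_mem hn m⟩ : N)) := by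
          obtain ⟨i, -, hi⟩ := (Nat.dvd_prime_pow Nat.prime_two).1 hp2
          exact IsPGroup.of_card (n := i) (by rw [Nat.card_zpowers, ← Subgroup.orderOf_coe]; simpa using hi)
        obtain ⟨Q, hQ⟩ := hpz.exists_le_sylow
        let P : Sylow 2 N := S.subtype Subgroup.le_normalizer
        haveI : (P : Subgroup N).Normal := by
          rw [Sylow.coe_subtype]; infer_instance
        haveI := Sylow.unique_of_normal P inferInstance
        have : (⟨n ^ m, pow_mem hn m⟩ : N) ∈ (P : Subgroup N) :=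
          Subsingleton.elim Q P ▸ hQ (Subgroup.mem_zpowers _)
        exact this
      have hfix : n ^ m * a * (n ^ m)⁻¹ = a := by
        rw [show n ^ m * a = a * n ^ m from
          congrArg Subtype.val (hab.is_comm.comm ⟨_, hmem⟩ ⟨a, (mem_omega.1 ha).1⟩),
          mul_inv_cancel_right]
      have hev : ∀ i : ℕ, (n ^ 2) ^ i * a * ((n ^ 2) ^ i)⁻¹ = a := by
        intro i
        induction i with
        | zero => simp
        | succ i ih =>
          calc (n ^ 2) ^ (i + 1) * a * ((n ^ 2) ^ (i + 1))⁻¹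
              = (n ^ 2) ^ i * (n ^ 2 * a * (n ^ 2)⁻¹) * ((n ^ 2) ^ i)⁻¹ := by rw [pow_succ]; group
            _ = a := by rw [hn2, ih]
      rw [hj, pow_succ', pow_mul] at hfix
      have : n * ((n ^ 2) ^ j * a * ((n ^ 2) ^ j)⁻¹) * n⁻¹ = a := by
        refine Eq.trans ?_ hfix
        group
      rw [hev, hnab] at this
      exact hba this
    · exfalso
      exact hba (mul_left_cancel (mul_right_cancel (hnab.trans h.symm))).symm
    · exact h
  have hnc : n * (a * b) * n⁻¹ = a := by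
    calc n * (a * b) * n⁻¹ = (n * a * n⁻¹) * (n * b * n⁻¹) := by group
      _ = a := by rw [hnab, hnb, hab', ← mul_assoc, hb2, one_mul]
  -- the automorphism of S
  let φ : MulAut (S : Subgroup G) :=
    ((MulAut.conj n).subgroupMap (S : Subgroup G)).trans (MulEquiv.subgroupCongr (by
      refine le_antisymm ?_ fun x hx => ?_
      · rintro _ ⟨x, hx, rfl⟩
        exact (Subgroup.mem_normalizer_iff.1 hn x).1 hx
      · exact ⟨n⁻¹ * x * n, (Subgroup.mem_normalizer_iff''.1 hn x).1 hx, by simp [mul_assoc]⟩))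
  have hφ : ∀ x : (S : Subgroup G), ((φ x : (S : Subgroup G)) : G) = n * x * n⁻¹ := fun x => rfl
  have hφt : ∀ s t : (S : Subgroup G), orderOf s = 2 → orderOf t = 2 → ∃ k : ℕ, (φ ^ k) s = t := by
    intro s t hs ht
    obtain ⟨hsA, hs1⟩ := hel s hs
    obtain ⟨htA, ht1⟩ := hel t ht
    have e0 : ((φ ^ 0) s : (S : Subgroup G)) = s := by rw [pow_zero]; rfl
    have e1 : (((φ ^ 1) s : (S : Subgroup G)) : G) = n * s * n⁻¹ := by rw [pow_one]; exact hφ s
    have e2 : (((φ ^ 2) s : (S : Subgroup G)) : G) = n * (n * s * n⁻¹) * n⁻¹ := by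
      rw [pow_two, MulAut.mul_apply, hφ, hφ]
    rcases hall _ hsA hs1 with h | h | h <;> rcases hall _ htA ht1 with h' | h' | h'
    all_goals first
      | (refine ⟨0, Subtype.ext ?_⟩; rw [e0, h, h']; done)
      | (refine ⟨1, Subtype.ext ?_⟩; rw [e1, h, h']; first | exact hnab | exact hnb | exact hnc)
      | (refine ⟨2, Subtype.ext ?_⟩; rw [e2, h, h']
         first | (rw [hnab, hnb]; done) | (rw [hnb, hnc]; done) | (rw [hnc, hnab]; done))
  haveI : Fintype (GaloisField 2 4) := Fintype.ofFinite _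
  have hF16 : Fintype.card (GaloisField 2 4) = 16 := by
    rw [← Nat.card_eq_fintype_card, GaloisField.card 2 4 (by norm_num)]; norm_num
  obtain ⟨P₀⟩ : Nonempty (Sylow 2 (Cfsg.PSU 3 (GaloisField 2 4) 4)) := inferInstance
  rcases Cfsg.Agent.S1237.result (T := (S : Subgroup G)) S.2 hr2 hr1 φ hφt hF16 P₀ with
    ⟨m, hm, ⟨e⟩⟩ | ⟨⟨e⟩⟩
  swap
  · exfalso
    obtain ⟨c⟩ := Cfsg.Agent.Lib.U3Sylow.exists_coords_PSU (n := 2) (by rw [hF16]; norm_num)
      (P₀ : Sylow 2 (Cfsg.PSU 3 (GaloisField 2 4) (2 ^ 2)))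
    obtain ⟨x, hx⟩ := Cfsg.Agent.Lib.U3Sylow.exists_not_fixed (n := 2) (F := GaloisField 2 4)
      (by rw [hF16]; norm_num)
    obtain ⟨p, hp⟩ := Cfsg.Agent.Lib.U3Sylow.exists_pair (n := 2) (F := GaloisField 2 4)
      (by rw [hF16]; norm_num) x
    obtain ⟨o, ho⟩ := Cfsg.Agent.Lib.U3Sylow.exists_pair (n := 2) (F := GaloisField 2 4)
      (by rw [hF16]; norm_num) 1
    have hcomm := e.symm.injective (a₁ := c.equiv.symm p * c.equiv.symm o)
      (a₂ := c.equiv.symm o * c.equiv.symm p) (by rw [map_mul, map_mul]; exact hab.is_comm.comm _ _)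
    have h1 := congrArg (fun s => (c.equiv s).1.2) hcomm
    simp only [c.mul_snd, Equiv.apply_symm_apply, hp, ho, one_pow, mul_one, one_mul] at h1
    exact hx (add_left_cancel (h1.trans (by rw [add_comm o.1.2 p.1.2])))
  rcases (show m = 1 ∨ 2 ≤ m by omega) with hm1 | hm2
  swap
  · exfalso
    have hn := Cfsg.Agent.Lib.Homocyclic.BrauerTheorem.sylow_normal_aux (Nat.card G) G rfl S m hm2 e
      (fun N hN hodd => (Subgroup.Normal.eq_bot_or_eq_top hN).resolve_right fun h => by
        rw [h, Subgroup.card_top] at hodd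
        exact Nat.not_odd_iff_even.2 (even_card hG) hodd)
    rcases Subgroup.Normal.eq_bot_or_eq_top hn with h | h
    · have := Subgroup.card_le_of_le (show A ≤ (S : Subgroup G) from fun x hx => (mem_omega.1 hx).1)
      rw [h, Subgroup.card_bot, h4] at this
      omega
    · exact hG ⟨⟨fun x y => congrArg Subtype.val (hab.is_comm.comm
        (⟨x, h ▸ mem_top x⟩ : (S : Subgroup G)) ⟨y, h ▸ mem_top y⟩)⟩⟩
  subst hm1
  have hS4 : Nat.card (S : Subgroup G) = 4 := by
    rw [Nat.card_congr e.toEquiv, Nat.card_congr Multiplicative.toAdd, Nat.card_prod, Nat.card_zmod]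
    norm_num
  haveI : IsKleinFour (S : Subgroup G) := by
    refine ⟨hS4, ?_⟩
    refine Nat.dvd_antisymm (Monoid.exponent_dvd_of_forall_pow_eq_one fun x => e.injective ?_) ?_
    · rw [map_pow, map_one]
      generalize e x = y
      exact sq_four y
    · obtain ⟨t, ht⟩ := exists_prime_orderOf_dvd_card' (G := (S : Subgroup G)) 2 (by rw [hS4]; norm_num)
      have h := Monoid.order_dvd_exponent t
      rwa [ht] at h
  haveI : IsKleinFour (DihedralGroup 2) := DihedralGroup.instIsKleinFourOfNatNat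
  obtain ⟨d⟩ : Nonempty ((S : Subgroup G) ≃* DihedralGroup 2) := IsKleinFour.nonempty_mulEquiv
  haveI : Group.IsPerfect G := by
    rw [Group.isPerfect_def]
    refine (Subgroup.Normal.eq_bot_or_eq_top inferInstance).resolve_left fun h => hG ?_
    exact ⟨⟨fun x y => commutatorElement_eq_one_iff_mul_comm.1 (Subgroup.mem_bot.1
      (h ▸ Subgroup.commutator_mem_commutator (mem_top x) (mem_top y)))⟩⟩
  have hcore : Cfsg.oddCore G = ⊥ :=
    (Subgroup.Normal.eq_bot_or_eq_top inferInstance).resolve_right fun h => by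
      have hodd := Cfsg.Agent.Lib.ZStar.Elements.oddCore_odd (G := G)
      rw [h, Subgroup.card_top] at hodd
      exact Nat.not_odd_iff_even.2 (even_card hG) hodd
  let q₀ : G ⧸ Cfsg.oddCore G ≃* G :=
    (QuotientGroup.quotientMulEquivOfEq hcore).trans QuotientGroup.quotientBot
  have hnot8 : ¬ 8 ∣ Nat.card G := fun h8 => by
    have h := S.card_eq_multiplicity
    rw [hS4] at h
    have h3 : 3 ≤ (Nat.card G).factorization 2 :=
      (Nat.Prime.pow_dvd_iff_le_factorization Nat.prime_two Nat.card_pos.ne').1 h8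
    have : 2 ^ 3 ≤ 2 ^ (Nat.card G).factorization 2 := Nat.pow_le_pow_right two_pos h3
    omega
  rcases hGW G S 2 le_rfl ⟨d⟩ with ⟨F, i, j, hodd, h3, ⟨r⟩⟩ | hr
  · refine ⟨F, i, j, Or.inl ⟨?_, by obtain ⟨k, hk⟩ := hodd; omega⟩, ⟨q₀.symm.trans r⟩⟩
    have hcard : Nat.card G = Nat.card (Matrix.ProjectiveSpecialLinearGroup (Fin 2) F) :=
      Nat.card_congr (q₀.symm.trans r).toEquiv
    have h2 := Cfsg.Agent.Lib.Linear.two_mul_card_PSL_two_of_odd (F := F) hodd
    rw [← hcard] at h2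
    obtain ⟨k, hk⟩ := hodd
    by_contra hmod
    apply hnot8
    have h16 : 16 ∣ 2 * Nat.card G := by
      rw [h2, mul_assoc]
      refine Dvd.dvd.mul_left ?_ _
      rcases (show Fintype.card F % 8 = 1 ∨ Fintype.card F % 8 = 7 by omega) with h | h
      · obtain ⟨l, hl⟩ : ∃ l, Fintype.card F = 8 * l + 1 := ⟨Fintype.card F / 8, by omega⟩
        rw [hl]
        exact ⟨l * (4 * l + 1), by rw [Nat.add_sub_cancel]; ring⟩
      · obtain ⟨l, hl⟩ : ∃ l, Fintype.card F = 8 * l + 7 := ⟨Fintype.card F / 8, by omega⟩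
        rw [hl, show 8 * l + 7 - 1 = 8 * l + 6 by omega]
        exact ⟨(4 * l + 3) * (l + 1), by ring⟩
    exact Nat.dvd_of_mul_dvd_mul_left two_pos h16
  · obtain ⟨r⟩ := hr
    exfalso
    apply hnot8
    rw [Nat.card_congr (q₀.symm.trans r).toEquiv, nat_card_alternatingGroup, Nat.card_fin]
    decide

/-- Simple groups with abelian Sylow 2-subgroups and solvable involution centralizers. -/
theorem model_of_simple (hP : Cfsg.Agent.Lib.BenderConsumers23.PropPartOne.{u})
    (hMain : Cfsg.Agent.Lib.BenderSuzuki.PropMain.{u, u}) (hGW : GWConsumers12.GWPerfect.{u})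
    (hG : ¬ IsMulCommutative G) (S : Sylow 2 G) (hab : IsMulCommutative (S : Subgroup G))
    (hC : ∀ t : G, orderOf t = 2 → Group.IsSolvable ↥(Subgroup.centralizer ({t} : Set G))) :
    IsModel G := by
  haveI : Fact (Nat.Prime 2) := ⟨Nat.prime_two⟩
  have h4 := four_le_omega hG S hab
  by_cases h8 : 8 ≤ Nat.card (omega (S : Subgroup G) hab)
  · exact model_of_rank_three hP hMain hG S hab hC h8
  · obtain ⟨k, hk⟩ := IsPGroup.iff_card.1
      (S.2.to_le fun x (hx : x ∈ omega (S : Subgroup G) hab) => (mem_omega.1 hx).1)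
    refine model_of_rank_two hGW hG S hab ?_
    rcases (show k ≤ 1 ∨ k = 2 ∨ 3 ≤ k by omega) with h | h | h
    · have := Nat.pow_le_pow_right two_pos h
      omega
    · rw [hk, h]; norm_num
    · have := Nat.pow_le_pow_right two_pos h
      omega

end Cfsg.Agent.Lib.SolvCentAb12
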