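import Mathlib
import Cfsg.Agent.Lib.Balance.Basic
import Cfsg.Agent.Lib.SylowInter.Basic

/-!
# Involutions modulo a normal subgroup of odd order; solvable groups with abelian Sylow subgroups
(helper12)
-/

set_option autoImplicit false
set_option linter.style.haveILetI false

namespace Cfsg.Agent.Lib.SolvCentAb12

open Subgroup

/-- An involution of a quotient by a normal subgroup of odd order lifts to an involution. -/
theorem exists_lift {G : Type*} [Group G] [Finite G] (O : Subgroup G) [O.Normal]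
    (hO : Odd (Nat.card O)) {x : G ⧸ O} (hx : orderOf x = 2) :
    ∃ t : G, orderOf t = 2 ∧ (QuotientGroup.mk t : G ⧸ O) = x := by
  obtain ⟨g, rfl⟩ := QuotientGroup.mk_surjective x
  have hx2 : (QuotientGroup.mk g : G ⧸ O) ^ 2 = 1 := by rw [← hx, pow_orderOf_eq_one]
  have hg2 : g ^ 2 ∈ O := by rwa [← QuotientGroup.eq_one_iff, QuotientGroup.mk_pow]
  have h1 : (g ^ 2) ^ Nat.card O = 1 := congrArg Subtype.val (pow_card_eq_one' (x := (⟨_, hg2⟩ : O)))
  obtain ⟨k, hk⟩ := hO
  have hq : (QuotientGroup.mk (g ^ Nat.card O) : G ⧸ O) = QuotientGroup.mk g := by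
    rw [QuotientGroup.mk_pow, hk, pow_succ, pow_mul, hx2, one_pow, one_mul]
  refine ⟨g ^ Nat.card O, orderOf_eq_prime ?_ fun h => ?_, hq⟩
  · rw [← pow_mul, mul_comm, pow_mul, h1]
  · rw [← hq, h, QuotientGroup.mk_one, orderOf_one] at hx
    omega

/-- The centralizer of an involution maps onto the centralizer of its image. -/
theorem map_centralizer_invol {G : Type*} [Group G] [Finite G] (O : Subgroup G) [O.Normal]
    (hO : Odd (Nat.card O)) {t : G} (ht : orderOf t = 2) :
    (Subgroup.centralizer ({t} : Set G)).map (QuotientGroup.mk' O) =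
      Subgroup.centralizer ({(QuotientGroup.mk t : G ⧸ O)} : Set (G ⧸ O)) := by
  refine le_antisymm ?_ fun y hy => ?_
  · rintro _ ⟨c, hc, rfl⟩
    rw [Subgroup.mem_centralizer_singleton_iff, QuotientGroup.mk'_apply, ← QuotientGroup.mk_mul,
      ← QuotientGroup.mk_mul, Subgroup.mem_centralizer_singleton_iff.1 hc]
  obtain ⟨g, rfl⟩ := QuotientGroup.mk_surjective y
  rw [Subgroup.mem_centralizer_singleton_iff] at hy
  have htt : t * t = 1 := by rw [← pow_two, ← ht, pow_orderOf_eq_one]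
  have hti : t⁻¹ = t := inv_eq_of_mul_eq_one_right htt
  set u := g * t * g⁻¹ with hu
  have huu : u * u = 1 := by
    rw [hu]
    calc g * t * g⁻¹ * (g * t * g⁻¹) = g * (t * t) * g⁻¹ := by group
      _ = 1 := by rw [htt, mul_one, mul_inv_cancel]
  set w := u * t with hw
  have hwO : w ∈ O := by
    rw [← QuotientGroup.eq_one_iff, hw, hu]
    simp only [QuotientGroup.mk_mul, QuotientGroup.mk_inv]
    rw [hy, mul_inv_cancel_right, ← QuotientGroup.mk_mul, htt, QuotientGroup.mk_one]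
  obtain ⟨k, hk⟩ := hO
  have hwc : w ^ (2 * k + 1) = 1 := by
    rw [← hk]
    exact congrArg Subtype.val (pow_card_eq_one' (x := (⟨w, hwO⟩ : O)))
  have htw : t * w * t⁻¹ = w⁻¹ := by
    rw [hw, hti, mul_inv_rev, hti, inv_eq_of_mul_eq_one_right huu]
    calc t * (u * t) * t = t * u * (t * t) := by group
      _ = t * u := by rw [htt, mul_one]
  have htwi : ∀ j : ℕ, t * (w ^ j)⁻¹ = w ^ j * t := by
    intro j
    have h : t * w ^ j * t⁻¹ = (w ^ j)⁻¹ := by rw [← conj_pow, htw, inv_pow]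
    calc t * (w ^ j)⁻¹ = t * (t * w ^ j * t⁻¹) := by rw [h]
      _ = t * t * w ^ j * t⁻¹ := by group
      _ = w ^ j * t := by rw [htt, one_mul, hti]
  have hwt : w ^ (k + 1) * t * (w ^ (k + 1))⁻¹ = u := by
    rw [mul_assoc, htwi, ← mul_assoc, ← pow_add, show k + 1 + (k + 1) = 2 * k + 1 + 1 by omega,
      pow_succ, hwc, one_mul, hw, mul_assoc, htt, mul_one]
  refine ⟨(w ^ (k + 1))⁻¹ * g, Subgroup.mem_centralizer_singleton_iff.2 ?_, ?_⟩
  · have h : g * t * g⁻¹ = w ^ (k + 1) * t * (w ^ (k + 1))⁻¹ := by rw [hwt, hu]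
    calc (w ^ (k + 1))⁻¹ * g * t = (w ^ (k + 1))⁻¹ * (g * t * g⁻¹) * g := by group
      _ = t * ((w ^ (k + 1))⁻¹ * g) := by rw [h]; group
  · rw [map_mul, map_inv, QuotientGroup.mk'_apply, (QuotientGroup.eq_one_iff _).2 (pow_mem hwO _),
      inv_one, one_mul, QuotientGroup.mk'_apply]

/-- Centralizers of involutions stay solvable modulo the odd core. -/
theorem isSolvable_centralizer_mk {G : Type*} [Group G] [Finite G] (O : Subgroup G) [O.Normal]
    (hO : Odd (Nat.card O))
    (hC : ∀ t : G, orderOf t = 2 → Group.IsSolvable ↥(Subgroup.centralizer ({t} : Set G)))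
    {x : G ⧸ O} (hx : orderOf x = 2) :
    Group.IsSolvable ↥(Subgroup.centralizer ({x} : Set (G ⧸ O))) := by
  obtain ⟨t, ht, rfl⟩ := exists_lift O hO hx
  rw [← map_centralizer_invol O hO ht]
  haveI := hC t ht
  exact Group.isSolvable_of_surjective ((QuotientGroup.mk' O).subgroupMap_surjective _)

/-- In a solvable group with abelian Sylow 2-subgroups, the normalizer of one of them covers the
quotient by the odd core. -/
theorem sup_normalizer_eq_top {C : Type*} [Group C] [Finite C] [Group.IsSolvable C] (P : Sylow 2 C)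
    (hab : IsMulCommutative (P : Subgroup C)) :
    Subgroup.normalizer ((P : Subgroup C) : Set C) ⊔ Cfsg.pPrimeCore 2 C = ⊤ := by
  haveI : Fact (Nat.Prime 2) := ⟨Nat.prime_two⟩
  set O := Cfsg.pPrimeCore 2 C with hOdef
  set π := QuotientGroup.mk' O with hπ
  haveI : Group.IsSolvable (C ⧸ O) := Group.isSolvable_of_surjective (QuotientGroup.mk'_surjective O)
  set Q : Sylow 2 (C ⧸ O) := P.mapSurjective (QuotientGroup.mk'_surjective O) with hQdef
  have hQab : ∀ a ∈ (Q : Subgroup (C ⧸ O)), ∀ b ∈ (Q : Subgroup (C ⧸ O)), a * b = b * a := by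
    rintro _ ⟨a, ha, rfl⟩ _ ⟨b, hb, rfl⟩
    rw [← map_mul, ← map_mul]
    exact congrArg π (congrArg Subtype.val (hab.is_comm.comm ⟨a, ha⟩ ⟨b, hb⟩))
  have hcore := Cfsg.Agent.Lib.SylowInter.Basic.centralizer_pCore_le (G := C ⧸ O) 2
    (Cfsg.Agent.Lib.Cores.pPrimeCore_quotient_pPrimeCore 2)
  have hle : Cfsg.pCore 2 (C ⧸ O) ≤ (Q : Subgroup (C ⧸ O)) := Cfsg.Agent.Lib.Cores.pCore_le_sylow Q
  have hQ : (Q : Subgroup (C ⧸ O)) = Cfsg.pCore 2 (C ⧸ O) := le_antisymm (fun q hq => hcore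
    (Subgroup.mem_centralizer_iff.2 fun a ha => hQab a (hle ha) q hq)) hle
  haveI hQn : (Q : Subgroup (C ⧸ O)).Normal := hQ ▸ inferInstance
  set N := (Q : Subgroup (C ⧸ O)).comap π with hN
  have hPN : (P : Subgroup C) ≤ N := fun x hx => ⟨x, hx, rfl⟩
  haveI : N.Normal := inferInstanceAs ((Q : Subgroup (C ⧸ O)).comap π).Normal
  have hfr := Sylow.normalizer_sup_eq_top (P.subtype hPN)
  have hmap : ((P.subtype hPN : Sylow 2 N) : Subgroup N).map N.subtype = (P : Subgroup C) := by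
    rw [Sylow.coe_subtype, Subgroup.map_subgroupOf_eq_of_le hPN]
  rw [hmap] at hfr
  rw [eq_top_iff, ← hfr, sup_le_iff]
  refine ⟨le_sup_left, fun x hx => ?_⟩
  obtain ⟨s, hs, hse⟩ := Subgroup.mem_comap.1 hx
  have hm : s⁻¹ * x ∈ O := by
    rw [← QuotientGroup.eq_one_iff, QuotientGroup.mk_mul, QuotientGroup.mk_inv]
    exact (inv_mul_eq_one).2 hse
  have := mul_mem (Subgroup.mem_sup_left (T := O) (Subgroup.le_normalizer hs))
    (Subgroup.mem_sup_right (S := Subgroup.normalizer ((P : Subgroup C) : Set C)) hm)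
  rwa [mul_inv_cancel_left] at this

end Cfsg.Agent.Lib.SolvCentAb12
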