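import Cfsg.Agent.Lib.SolvCentAb12.Simple
import Cfsg.Agent.Lib.CharSimple
import Cfsg.Agent.Lib.Subnormality.UniqueMaximal

/-!
# Groups with abelian Sylow 2-subgroups and solvable involution centralizers, given the
Bender–Suzuki and Gorenstein–Walter theorems (helper12)
-/

set_option autoImplicit false
set_option linter.style.haveILetI false

universe u

namespace Cfsg.Agent.Lib.SolvCentAb12

open Subgroup

variable {G : Type u} [Group G] [Finite G]

/-- The socle: with trivial odd core and `G` non-solvable it is a model with trivial centralizer. -/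
theorem exists_socle (hP : Cfsg.Agent.Lib.BenderConsumers23.PropPartOne.{u})
    (hMain : Cfsg.Agent.Lib.BenderSuzuki.PropMain.{u, u}) (hGW : GWConsumers12.GWPerfect.{u})
    (hns : ¬ Group.IsSolvable G)
    (hO : ∀ N : Subgroup G, N.Normal → Odd (Nat.card N) → N = ⊥)
    (S : Sylow 2 G) (hab : IsMulCommutative (S : Subgroup G))
    (hC : ∀ t : G, orderOf t = 2 → Group.IsSolvable ↥(Subgroup.centralizer ({t} : Set G))) :
    ∃ N : Subgroup G, N.Normal ∧ IsModel ↥N ∧ Subgroup.centralizer (N : Set G) = ⊥ := by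
  classical
  haveI : Fact (Nat.Prime 2) := ⟨Nat.prime_two⟩
  haveI : Nontrivial G := by
    by_contra h
    rw [not_nontrivial_iff_subsingleton] at h
    exact hns inferInstance
  -- there is no nontrivial solvable normal subgroup
  have hsol : ∀ K : Subgroup G, K.Normal → Group.IsSolvable K → K = ⊥ := by
    intro K hK hKs
    by_contra hne
    obtain ⟨V, ⟨hVn, hV1, hVK⟩, hVmin⟩ := (Set.toFinite
      {V : Subgroup G | V.Normal ∧ V ≠ ⊥ ∧ V ≤ K}).exists_minimal ⟨K, hK, hne, le_rfl⟩
    have hmin : ∀ W : Subgroup G, W.Normal → W ≤ V → W ≠ ⊥ → V ≤ W := fun W hW hle hW1 =>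
      hVmin ⟨hW, hW1, hle.trans hVK⟩ hle
    haveI := hVn
    haveI : Group.IsSolvable V := Group.isSolvable_of_isSolvable_injective
      (f := Subgroup.inclusion hVK) (Subgroup.inclusion_injective _)
    haveI : Nontrivial V := (Subgroup.nontrivial_iff_ne_bot V).2 hV1
    have hcomm : ⁅V, V⁆ = ⊥ := by
      by_contra h
      have hle : V ≤ ⁅V, V⁆ := hmin _ inferInstance (Subgroup.commutator_le_self V) h
      have hlt := Group.IsSolvable.commutator_lt_top_of_nontrivial V
      refine hlt.ne (Subgroup.map_injective V.subtype_injective ?_)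
      rw [Subgroup.map_subtype_commutator, ← MonoidHom.range_eq_map, Subgroup.range_subtype]
      exact le_antisymm (Subgroup.commutator_le_self V) hle
    have hVc : ∀ a ∈ V, ∀ b ∈ V, a * b = b * a := fun a ha b hb =>
      commutatorElement_eq_one_iff_mul_comm.1 (Subgroup.mem_bot.1
        (hcomm ▸ Subgroup.commutator_mem_commutator ha hb))
    have hVeven : 2 ∣ Nat.card V := by
      by_contra h
      exact hV1 (hO V hVn (Nat.odd_iff.2 (Nat.two_dvd_ne_zero.1 h)))
    obtain ⟨z, hz⟩ := exists_prime_orderOf_dvd_card' 2 hVeven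
    have hz' : orderOf (z : G) = 2 := by rw [Subgroup.orderOf_coe, hz]
    let E : Subgroup G :=
      { carrier := {x | x ∈ V ∧ x ^ 2 = 1}
        one_mem' := ⟨one_mem _, one_pow 2⟩
        mul_mem' := by
          rintro a b ⟨ha, ha2⟩ ⟨hb, hb2⟩
          exact ⟨mul_mem ha hb, by
            rw [Commute.mul_pow (show Commute a b from hVc a ha b hb), ha2, hb2, one_mul]⟩
        inv_mem' := by
          rintro a ⟨ha, ha2⟩
          exact ⟨inv_mem ha, by rw [inv_pow, ha2, inv_one]⟩ }
    have hEn : E.Normal := ⟨fun x hx g => ⟨hVn.conj_mem x hx.1 g, by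
      rw [conj_pow, hx.2, mul_one, mul_inv_cancel]⟩⟩
    have hzE : (z : G) ∈ E := ⟨z.2, by rw [← orderOf_dvd_iff_pow_eq_one, hz']⟩
    have hE1 : E ≠ ⊥ := fun h => by
      rw [h, Subgroup.mem_bot] at hzE
      rw [hzE, orderOf_one] at hz'
      omega
    have hVE : V ≤ E := hmin E hEn (fun x hx => hx.1) hE1
    have hVp : IsPGroup 2 V := fun x => ⟨1, Subtype.ext (hVE x.2).2⟩
    have hVS : V ≤ (S : Subgroup G) := hVp.le_sylow_of_normal S
    have hSC : (S : Subgroup G) ≤ Subgroup.centralizer (V : Set G) := fun s hs =>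
      Subgroup.mem_centralizer_iff.2 fun v hv =>
        congrArg Subtype.val (hab.is_comm.comm ⟨v, hVS hv⟩ ⟨s, hs⟩)
    have hCz : Subgroup.centralizer (V : Set G) ≤ Subgroup.centralizer ({(z : G)} : Set G) :=
      Subgroup.centralizer_le (Set.singleton_subset_iff.2 z.2)
    haveI := hC _ hz'
    haveI : Group.IsSolvable (Subgroup.centralizer (V : Set G)) :=
      Group.isSolvable_of_isSolvable_injective (f := Subgroup.inclusion hCz)
        (Subgroup.inclusion_injective _)
    haveI : Group.IsSolvable (G ⧸ Subgroup.centralizer (V : Set G)) := by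
      refine Cfsg.Agent.S0205.result (Nat.not_even_iff_odd.1 fun h => S.not_dvd_index ?_)
      rw [← Subgroup.index_eq_card] at h
      exact h.two_dvd.trans (Subgroup.index_dvd_of_le hSC)
    exact hns (Group.isSolvable_of_ker_le_range (Subgroup.centralizer (V : Set G)).subtype
      (QuotientGroup.mk' (Subgroup.centralizer (V : Set G)))
      (by rw [QuotientGroup.ker_mk', Subgroup.range_subtype]))
  obtain ⟨N, hNn, hN1, hNmin⟩ := Cfsg.Agent.Lib.Subnormality.UniqueMaximal.exists_minimal_normal (G := G)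
  haveI := hNn
  haveI : Nontrivial N := (Subgroup.nontrivial_iff_ne_bot N).2 hN1
  have hNns : ¬ Group.IsSolvable N := fun h => hN1 (hsol N hNn h)
  obtain ⟨T, k, hTn, hTs, hk, ⟨e⟩⟩ :=
    Cfsg.Agent.Lib.CharSimple.exists_mulEquiv_pi_of_charSimple N fun H hH => by
      haveI := hH
      have hn : (H.map N.subtype).Normal := inferInstance
      rcases eq_or_ne (H.map N.subtype) ⊥ with h | h
      · exact Or.inl ((Subgroup.map_eq_bot_iff_of_injective _ N.subtype_injective).1 h)
      · refine Or.inr (Subgroup.map_injective N.subtype_injective ?_)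
        rw [hNmin _ hn (Subgroup.map_subtype_le H) h, ← MonoidHom.range_eq_map, Subgroup.range_subtype]
  haveI := hTs
  have hTns : ¬ Group.IsSolvable T := by
    intro h
    apply hNns
    have hc : ∀ a b : T, a * b = b * a := (IsSimpleGroup.comm_iff_isSolvable).2 h
    exact Group.isSolvable_of_comm fun a b => e.injective (by
      rw [map_mul, map_mul]; exact funext fun i => hc _ _)
  have hTc : ¬ IsMulCommutative T := fun h => hTns (Group.isSolvable_of_comm h.is_comm.comm)
  -- there is one factor
  have hk1 : k = 1 := by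
    by_contra h
    have hk2 : 2 ≤ k := by omega
    obtain ⟨t, ht⟩ := exists_prime_orderOf_dvd_card' 2 (even_card hTc).two_dvd
    let i : Fin k := ⟨0, by omega⟩
    let j : Fin k := ⟨1, by omega⟩
    have hij : i ≠ j := fun h => absurd (congrArg Fin.val h) (by norm_num [i, j])
    set x : G := ((e.symm (Pi.mulSingle i t) : N) : G)
    have hx : orderOf x = 2 := by
      rw [Subgroup.orderOf_coe, MulEquiv.orderOf_eq]
      have hinj : Function.Injective (MonoidHom.mulSingle (fun _ : Fin k => (T : Type u)) i) :=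
        fun a b h => by simpa using congrFun h i
      exact (orderOf_injective _ hinj t).trans ht
    let f : T →* Subgroup.centralizer ({x} : Set G) :=
      (((N.subtype.comp e.symm.toMonoidHom).comp
        (MonoidHom.mulSingle (fun _ : Fin k => (T : Type u)) j))).codRestrict _ fun s =>
          Subgroup.mem_centralizer_singleton_iff.2 (by
            show ((e.symm (Pi.mulSingle j s) : N) : G) * x = x * ((e.symm (Pi.mulSingle j s) : N) : G)
            rw [← Subgroup.coe_mul, ← Subgroup.coe_mul, ← map_mul, ← map_mul,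
              (Pi.mulSingle_commute (f := fun _ : Fin k => (T : Type u)) hij t s).symm.eq])
    have hf : Function.Injective f := by
      intro a b hab'
      have h1 : ((e.symm (Pi.mulSingle j a) : N) : G) = ((e.symm (Pi.mulSingle j b) : N) : G) :=
        congrArg (fun c : Subgroup.centralizer ({x} : Set G) => (c : G)) hab'
      simpa using congrFun (e.symm.injective (Subtype.ext h1)) j
    haveI := hC x hx
    exact hTns (Group.isSolvable_of_isSolvable_injective hf)
  subst hk1
  let eN : N ≃* T := e.trans (MulEquiv.piUnique _)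
  haveI : IsSimpleGroup N := eN.isSimpleGroup
  have hNc : ¬ IsMulCommutative N := fun h => hNns (Group.isSolvable_of_comm h.is_comm.comm)
  obtain ⟨P⟩ : Nonempty (Sylow 2 N) := inferInstance
  have hPab : IsMulCommutative (P : Subgroup N) := by
    obtain ⟨Q, hQ⟩ := (P.2.map N.subtype).exists_le_sylow
    obtain ⟨g, hg⟩ := MulAction.exists_smul_eq G Q S
    refine ⟨⟨fun a b => ?_⟩⟩
    have hmem : ∀ c : (P : Subgroup N), g * ((c : N) : G) * g⁻¹ ∈ (S : Subgroup G) := fun c => by
      rw [← hg, Sylow.coe_subgroup_smul]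
      have h1 : ((c : N) : G) ∈ (Q : Subgroup G) := hQ ⟨c, c.2, rfl⟩
      simpa using Subgroup.smul_mem_pointwise_smul (a := MulAut.conj g) _ _ h1
    have h1 : g * ((a : N) : G) * g⁻¹ * (g * ((b : N) : G) * g⁻¹) =
        g * ((b : N) : G) * g⁻¹ * (g * ((a : N) : G) * g⁻¹) :=
      congrArg Subtype.val (hab.is_comm.comm ⟨_, hmem a⟩ ⟨_, hmem b⟩)
    refine Subtype.ext (Subtype.ext ?_)
    have h2 := congrArg (fun z => g⁻¹ * z * g) h1
    simpa [mul_assoc] using h2
  have hNC : ∀ t : N, orderOf t = 2 → Group.IsSolvable ↥(Subgroup.centralizer ({t} : Set N)) := by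
    intro t ht
    haveI := hC (t : G) (by rw [Subgroup.orderOf_coe, ht])
    refine Group.isSolvable_of_isSolvable_injective (f :=
      (N.subtype.comp (Subgroup.centralizer ({t} : Set N)).subtype).codRestrict
        (Subgroup.centralizer ({(t : G)} : Set G)) fun c => Subgroup.mem_centralizer_singleton_iff.2
          (congrArg Subtype.val (Subgroup.mem_centralizer_singleton_iff.1 c.2))) ?_
    intro a b h
    have h' : ((a : N) : G) = ((b : N) : G) :=
      congrArg (fun c : Subgroup.centralizer ({(t : G)} : Set G) => (c : G)) h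
    exact Subtype.ext (Subtype.ext h')
  refine ⟨N, hNn, model_of_simple hP hMain hGW hNc P hPab hNC, ?_⟩
  haveI hCn : (Subgroup.centralizer (N : Set G)).Normal := Subgroup.normal_centralizer
  obtain ⟨t, ht⟩ := exists_prime_orderOf_dvd_card' 2 (even_card hNc).two_dvd
  have hle : Subgroup.centralizer (N : Set G) ≤ Subgroup.centralizer ({(t : G)} : Set G) :=
    Subgroup.centralizer_le (Set.singleton_subset_iff.2 t.2)
  haveI := hC (t : G) (by rw [Subgroup.orderOf_coe, ht])
  exact hsol _ hCn (Group.isSolvable_of_isSolvable_injective (f := Subgroup.inclusion hle)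
    (Subgroup.inclusion_injective _))

/-- The statement S3188 given the hypotheses. -/
theorem main (hP : Cfsg.Agent.Lib.BenderConsumers23.PropPartOne.{u})
    (hMain : Cfsg.Agent.Lib.BenderSuzuki.PropMain.{u, u}) (hGW : GWConsumers12.GWPerfect.{u})
    (S : Sylow 2 G) (hS : IsMulCommutative ↥(S : Subgroup G))
    (hC : ∀ t : G, orderOf t = 2 → Group.IsSolvable ↥(Subgroup.centralizer ({t} : Set G))) :
    Group.IsSolvable G ∨
      ∃ (F : Type) (_ : Field F) (_ : Fintype F),
        (((Fintype.card F % 8 = 3 ∨ Fintype.card F % 8 = 5) ∧ 5 ≤ Fintype.card F) ∨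
          (∃ n : ℕ, 2 ≤ n ∧ Fintype.card F = 2 ^ n)) ∧
        ∃ N : Subgroup (G ⧸ Cfsg.oddCore G), N.Normal ∧
          Nonempty (↥N ≃* Matrix.ProjectiveSpecialLinearGroup (Fin 2) F) ∧
          Subgroup.centralizer (N : Set (G ⧸ Cfsg.oddCore G)) = ⊥ := by
  haveI : Fact (Nat.Prime 2) := ⟨Nat.prime_two⟩
  have hodd := Cfsg.Agent.Lib.ZStar.Elements.oddCore_odd (G := G)
  by_cases hsol : Group.IsSolvable (G ⧸ Cfsg.oddCore G)
  · haveI := hsol
    haveI : Group.IsSolvable (Cfsg.oddCore G) := Cfsg.Agent.S0205.result hodd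
    exact Or.inl (Group.isSolvable_of_ker_le_range (Cfsg.oddCore G).subtype
      (QuotientGroup.mk' (Cfsg.oddCore G)) (by rw [QuotientGroup.ker_mk', Subgroup.range_subtype]))
  have hab : IsMulCommutative ((S.mapSurjective (QuotientGroup.mk'_surjective (Cfsg.oddCore G))) :
      Subgroup (G ⧸ Cfsg.oddCore G)) := by
    refine ⟨⟨?_⟩⟩
    rintro ⟨_, a, ha, rfl⟩ ⟨_, b, hb, rfl⟩
    refine Subtype.ext ?_
    show QuotientGroup.mk' (Cfsg.oddCore G) a * QuotientGroup.mk' (Cfsg.oddCore G) b =
      QuotientGroup.mk' (Cfsg.oddCore G) b * QuotientGroup.mk' (Cfsg.oddCore G) a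
    rw [← map_mul, ← map_mul]
    exact congrArg _ (congrArg Subtype.val (hS.is_comm.comm ⟨a, ha⟩ ⟨b, hb⟩))
  obtain ⟨N, hN, ⟨F, i, j, hF, he⟩, hc⟩ := exists_socle hP hMain hGW hsol
    Cfsg.Agent.Lib.ZStar.Elements.quotient_oddCore _ hab
    fun x hx => isSolvable_centralizer_mk _ hodd hC hx
  exact Or.inr ⟨F, i, j, hF, N, hN, he, hc⟩

end Cfsg.Agent.Lib.SolvCentAb12
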